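import Groth.Agent.HodgeQ27.Cut
import Groth.Agent.SerreDual.Projective
import Groth.Agent.SplitP1.Basic

/-!
# Classes of the twists pulled back from projective space, and difference tables
-/

set_option autoImplicit false
set_option linter.style.haveILetI false
set_option backward.isDefEq.respectTransparency.types false

universe u

open CategoryTheory CategoryTheory.Limits AlgebraicGeometry Opposite TopologicalSpace
open Groth.Agent.Coherent Groth.Agent.PicLib Groth.Agent.AmpleLib Groth.Agent.EulerLib
open Groth.Agent.AssSch12 Groth.Agent.VarietyLib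

namespace Groth.Agent.HodgeQ27

variable {k : Type u} [Field k] {X : Scheme.{u}} {n : ℕ} (i : X ⟶ CohB1.ProjSpace n k)

theorem inv_tw (d : ℤ) :
    PicF.IsInvertible ((Scheme.Modules.pullback i).obj (Twist.twistProjSpace n k d)) :=
  PicLoc.isInvertible_pullback i (SerreDual.isInvertible_twist n k d)

/-- The class of the pulled back twist. -/
noncomputable def tw (d : ℤ) : InvCl X := InvCl.mk _ (inv_tw i d)

theorem tw_add (a b : ℤ) : tw i a * tw i b = tw i (a + b) := by
  obtain ⟨e⟩ := TwistLib.nonempty_tensor_twist_iso (𝒜 := CohB1.polyGrading n k) (fun x => by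
    obtain ⟨j, hj⟩ := UPLib.exists_degOne_projSpace (R := CommRingCat.of k) n x
    exact ⟨_, MvPolynomial.isHomogeneous_X k j, hj⟩) (rfl : a + b = a + b)
  exact (InvCl.mk_mul _ _).trans (InvCl.mk_eq _ _
    ((DCat.PullTensor.pullTensorIso i (Twist.twistProjSpace n k a) (Twist.twistProjSpace n k b)).symm ≪≫
      (Scheme.Modules.pullback i).mapIso e))

theorem tw_zero : tw i 0 = 1 := by
  obtain ⟨e⟩ := TwistLib.nonempty_twist_zero_iso (𝒜 := CohB1.polyGrading n k)
  obtain ⟨e'⟩ := exists_pullStructureIso i
  exact InvCl.mk_eq _ isInvertible_structureModule ((Scheme.Modules.pullback i).mapIso e ≪≫ e')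

theorem tw_pow (a : ℤ) : ∀ m : ℕ, tw i a ^ m = tw i (m * a)
  | 0 => by rw [pow_zero, Nat.cast_zero, zero_mul, tw_zero]
  | m + 1 => by rw [pow_succ, tw_pow a m, tw_add, Nat.cast_succ, add_mul, one_mul]

theorem isAmple_tw_one [IsClosedImmersion i] :
    CohB1.IsAmple ((Scheme.Modules.pullback i).obj (Twist.twistProjSpace n k 1)) :=
  isAmple_pullback_of_isAffineHom i (SerreDual.isAmple_projSpace_one n k)

/-- Iterated forward differences on the naturals. -/
def Diff : ℕ → (ℕ → ℤ) → ℕ → ℤ
  | 0, f => f
  | r + 1, f => Diff r fun m => f (m + 1) - f m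

theorem diff_zero_fun : ∀ r m, Diff r (fun _ => 0) m = 0
  | 0, _ => rfl
  | r + 1, m => by rw [Diff]; simp only [sub_self]; exact diff_zero_fun r m

theorem diff_sum {ι : Type*} (s : Finset ι) : ∀ (r : ℕ) (c : ι → ℤ) (f : ι → ℕ → ℤ) (m : ℕ),
    Diff r (fun m => ∑ j ∈ s, c j * f j m) m = ∑ j ∈ s, c j * Diff r (f j) m
  | 0, _, _, _ => rfl
  | r + 1, c, f, m => by
    have e : (fun m => (∑ j ∈ s, c j * f j (m + 1)) - ∑ j ∈ s, c j * f j m) =
        fun m => ∑ j ∈ s, c j * (f j (m + 1) - f j m) := funext fun m => by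
      rw [← Finset.sum_sub_distrib]
      exact Finset.sum_congr rfl fun j _ => (mul_sub _ _ _).symm
    rw [Diff, e, diff_sum s r c]
    rfl

theorem diff_choose (j : ℕ) : ∀ (r t m : ℕ),
    Diff r (fun m => ((m + j).choose t : ℤ)) m = if r ≤ t then ((m + j).choose (t - r) : ℤ) else 0
  | 0, _, _ => by simp [Diff]
  | r + 1, 0, m => by
    rw [Diff, if_neg (by omega)]
    simp only [Nat.choose_zero_right, Nat.cast_one, sub_self]
    exact diff_zero_fun r m
  | r + 1, t + 1, m => by
    have e : (fun m => ((m + 1 + j).choose (t + 1) : ℤ) - ((m + j).choose (t + 1) : ℤ)) =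
        fun m => ((m + j).choose t : ℤ) := funext fun m => by
      rw [show m + 1 + j = m + j + 1 by omega, Nat.choose_succ_succ]
      push_cast
      ring
    rw [Diff, e, diff_choose j r t m]
    by_cases hrt : r ≤ t
    · rw [if_pos hrt, if_pos (by omega), Nat.add_sub_add_right]
    · rw [if_neg hrt, if_neg (by omega)]

/-- Constant intersection degrees as iterated differences. -/
theorem interDeg_const_diff (a : InvCl X) : ∀ (r : ℕ) (φ : InvCl X → ℤ),
    interDeg (fun _ : Fin r => a) φ = Diff r (fun m => φ (a ^ m)) 0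
  | 0, φ => by rw [interDeg_zero, Diff, pow_zero]
  | r + 1, φ => by
    rw [const_eq_cons, interDeg_cons, interDeg_const_diff a r, Diff]
    refine congrFun (congrArg _ (funext fun m => ?_)) 0
    rw [pow_succ']

end Groth.Agent.HodgeQ27
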