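import Groth.Agent.HodgeQ27.Irred
import Groth.Agent.ZeroSchLib.Basic

/-!
# Numerical triviality detected on a zero scheme
-/

set_option autoImplicit false
set_option linter.style.haveILetI false
set_option backward.isDefEq.respectTransparency.types false

universe u

open CategoryTheory CategoryTheory.Limits AlgebraicGeometry Opposite TopologicalSpace
open Groth.Agent.Coherent Groth.Agent.PicLib Groth.Agent.AmpleLib Groth.Agent.EulerLib
open Groth.Agent.CurveRR24 Groth.Agent.DimLib Groth.Agent.AssSch12 Groth.Agent.AbCubeLib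
open Groth.Agent.Surf15 Groth.Agent.VarietyLib

namespace Groth.Agent.HodgeQ27

variable {X : Scheme.{u}}

theorem mem_support_zeroScheme_iff {L : X.Modules} (hL : PicF.IsInvertible L) (φ : Coh.structureModule X ⟶ L)
    (x : X) : x ∈ (PicF2.zeroScheme L φ).support ↔ x ∉ glocus L (unitVal φ ⊤) := by
  obtain ⟨U₀, hx₀, e₀, he₀⟩ := exists_isGen hL x
  obtain ⟨V, hV, hxV, hVU⟩ := exists_isAffineOpen_mem_and_subset (x := x) (U := U₀) hx₀
  have he := he₀.restrict (show V ≤ U₀ from hVU)
  rw [Scheme.IdealSheafData.mem_support_iff_of_mem (U := ⟨V, hV⟩) hxV,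
    ZeroSchLib.zeroScheme_ideal_eq_span φ hL ⟨V, hV⟩ he, Scheme.zeroLocus_span, Scheme.zeroLocus_singleton,
    Set.mem_compl_iff, SetLike.mem_coe]
  refine not_congr ⟨fun h => ?_, fun h => ?_⟩
  · have h1 := (glocus_inf (unitVal φ ⊤) he).ge (by rw [resM_unitVal]; exact h)
    exact h1.1
  · have h1 := (glocus_inf (unitVal φ ⊤) he).le ⟨h, hxV⟩
    rwa [resM_unitVal] at h1

variable (k : Type u) [Field k] [X.Over (Spec (CommRingCat.of k))]
  [IsProper (X ↘ Spec (CommRingCat.of k))]

include k in
/-- A class of degree zero on the curves inside a support has no intersection numbers there. -/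
theorem interDeg_cons_eq_zero {Q : X.Modules} (hQ : Coh.IsCoh Q) {r : ℕ}
    (hd : topologicalKrullDim (CohB1.support Q) ≤ ((r + 1 : ℕ) : WithBot ℕ∞)) (l : InvCl X)
    (hdeg : ∀ y ∈ CohB1.support Q, topologicalKrullDim (closure {y} : Set X) = ((1 : ℕ) : WithBot ℕ∞) →
      deg k (clM y) l = 0) (c : Fin r → InvCl X) :
    interDeg (Fin.cons l c) (chiCl k Q) = 0 := by
  classical
  haveI := isNoetherian_of_proper (X := X) k
  have hcl : IsClosed (CohB1.support Q) := isClosed_support Q (locallyFinGen_of_isFT Q hQ.2)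
  rw [eq_sum_mult (ψ := fun M => interDeg (Fin.cons l c) (chiCl k M)) (d := r + 1)
    (fun e => by rw [chiCl_congr k e])
    (fun T hT h₁ h₂ h₃ => by rw [chiCl_additive k T hT h₁ h₂ h₃, interDeg_add_fun])
    (fun M hM hlt => interDeg_eq_zero _ (finDeg_chiCl k hM hlt))
    hQ hd (finite_top_points hcl hd).toFinset (fun z hz h => (Set.Finite.mem_toFinset _).2 ⟨hz, h⟩)
    (fun z hz => ((Set.Finite.mem_toFinset _).1 hz).2)]
  refine Finset.sum_eq_zero fun η hη => ?_
  obtain ⟨hηQ, hηd⟩ := (Set.Finite.mem_toFinset _).1 hη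
  let W := (clI η).subscheme
  let ι := (clI η).subschemeι
  letI : W.Over (Spec (CommRingCat.of k)) := ⟨ι ≫ (X ↘ Spec (CommRingCat.of k))⟩
  haveI : IsProper (W ↘ Spec (CommRingCat.of k)) :=
    inferInstanceAs (IsProper (ι ≫ (X ↘ Spec (CommRingCat.of k))))
  haveI := isNoetherian_of_proper (X := W) k
  have hWd : topologicalKrullDim W = ((r + 1 : ℕ) : WithBot ℕ∞) := by
    rw [← hηd, ← range_clι η]
    exact IsHomeomorph.topologicalKrullDim_eq _ ι.isClosedEmbedding.isEmbedding.toHomeomorph.isHomeomorph
  have hsame : SameDeg k (VarietyLib.pullHom ι l) 1 := by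
    intro w hw
    have hmem : ι w ∈ CohB1.support Q :=
      hcl.closure_subset_iff.2 (Set.singleton_subset_iff.2 hηQ) ((range_clι η).le ⟨w, rfl⟩)
    have hιw : topologicalKrullDim (closure ({ι w} : Set X)) = ((1 : ℕ) : WithBot ℕ∞) := by
      rw [show closure ({ι w} : Set X) = ι '' closure {w} by
        rw [← ι.isClosedEmbedding.closure_image_eq, Set.image_singleton]]
      exact ((IsHomeomorph.topologicalKrullDim_eq _
        (ι.isClosedEmbedding.isEmbedding.homeomorphImage (closure {w})).isHomeomorph).symm).trans hw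
    have e := interDeg_pull_clM k ι rfl w (d := 1) hw (fun _ => l)
    rw [interDeg_one_class, interDeg_one_class, CycLib28.residueDegree_preimmersion ι, Nat.cast_one, one_mul,
      hdeg _ hmem hιw] at e
    exact sub_eq_zero.1 e
  have h0 := interDeg_cons_congr k hsame r (Coh.structureModule W) (isCoh_structureModule W)
    (((dim_mono (Set.subset_univ _)).trans
      (IsHomeomorph.topologicalKrullDim_eq _ (Homeomorph.Set.univ W).isHomeomorph).le).trans hWd.le)
    (fun i => VarietyLib.pullHom ι (c i))
  rw [interDeg_one] at h0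
  rw [show chiCl k (clM η) = (fun x => chiCl k (Coh.structureModule W) (VarietyLib.pullHom ι x)) from
      funext fun x => chiCl_push k ι rfl (isCoh_structureModule W) x,
    ← interDeg_monoidHom,
    show (fun i => VarietyLib.pullHom ι ((Fin.cons l c : Fin (r + 1) → InvCl X) i)) =
      Fin.cons (VarietyLib.pullHom ι l) (fun i => VarietyLib.pullHom ι (c i)) from
      funext fun i => by induction i using Fin.cases <;> rfl, h0, smul_zero]

include k in
/-- On an integral scheme of dimension at least three numerical triviality is detected by an ample divisor. -/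
theorem isNum_of_cut [IsIntegral X] {n : ℕ} (hX : topologicalKrullDim X = ((n + 1 + 2 : ℕ) : WithBot ℕ∞))
    {H : X.Modules} (hH : CohB1.IsAmple H) {s : Γ(H, ⊤)} (hs : s ≠ 0) (l : InvCl X)
    (hdeg : ∀ y, y ∉ glocus H s → topologicalKrullDim (closure {y} : Set X) = ((1 : ℕ) : WithBot ℕ∞) →
      deg k (clM y) l = 0) : NumTriv23.IsNum k l := by
  haveI := isNoetherian_of_proper (X := X) k
  obtain ⟨Q, hQ, hQs, hQd, hdiff⟩ := exists_cut k (r := n + 2) hX.le hH.1 hs
  set h := InvCl.mk H hH.1
  have h0 := fun c : Fin (n + 1) → InvCl X =>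
    interDeg_cons_eq_zero k hQ hQd l (fun y hy => hdeg y (hQs.le hy)) c
  refine isNum_of_index k hX H hH l ?_ (le_of_eq ?_)
  · rw [const_eq_cons h, interDeg_swap, interDeg_cons, hdiff]
    exact h0 _
  · symm
    rw [const_eq_cons h, interDeg_cons l, interDeg_swap, ← interDeg_cons l, interDeg_swap, interDeg_cons,
      hdiff]
    exact h0 _

end Groth.Agent.HodgeQ27
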