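import Groth.Agent.Surf15.BaseRat
import Groth.Agent.Surf15.Hodge
import Groth.Agent.VarietyLib.PullDegree
import Groth.Agent.VarietyLib.CurvePull
import Groth.Agent.VarietyLib.NakaiTransfer

/-!
# Cutting intersection degrees by a section, in any dimension
-/

set_option autoImplicit false
set_option linter.style.haveILetI false
set_option backward.isDefEq.respectTransparency.types false

universe u

open CategoryTheory CategoryTheory.Limits AlgebraicGeometry Opposite TopologicalSpace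
open Groth.Agent.Coherent Groth.Agent.PicLib Groth.Agent.AmpleLib Groth.Agent.EulerLib
open Groth.Agent.CurveRR24 Groth.Agent.DimLib Groth.Agent.AssSch12 Groth.Agent.AbCubeLib
open Groth.Agent.Surf15 Groth.Agent.VarietyLib
open scoped TensorProduct

namespace Groth.Agent.HodgeQ27

variable {X : Scheme.{u}}

theorem interDeg_swap {r : ℕ} (a b : InvCl X) (c : Fin r → InvCl X) (φ : InvCl X → ℤ) :
    interDeg (Fin.cons a (Fin.cons b c) : Fin (r + 2) → InvCl X) φ =
      interDeg (Fin.cons b (Fin.cons a c) : Fin (r + 2) → InvCl X) φ := by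
  simp only [interDeg_cons]
  refine congrArg _ (funext fun x => ?_)
  show φ (a * (b * x)) - φ (b * x) - (φ (a * x) - φ x) = φ (b * (a * x)) - φ (a * x) - (φ (b * x) - φ x)
  rw [mul_left_comm a b x]
  ring

theorem const_eq_cons {α : Type*} {r : ℕ} (h : α) :
    (fun _ : Fin (r + 1) => h) = (Fin.cons h (fun _ : Fin r => h) : Fin (r + 1) → α) :=
  funext fun i => by induction i using Fin.cases <;> rfl

variable (k : Type u) [Field k] [X.Over (Spec (CommRingCat.of k))]
  [IsProper (X ↘ Spec (CommRingCat.of k))]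

include k in
/-- A nonzero section of an invertible module on an integral scheme cuts out a sheaf of one dimension less. -/
theorem exists_cut [IsIntegral X] {r : ℕ} (hX : topologicalKrullDim X ≤ ((r + 1 : ℕ) : WithBot ℕ∞))
    {P : X.Modules} (hP : PicF.IsInvertible P) {s : Γ(P, ⊤)} (hs : s ≠ 0) :
    ∃ Q : X.Modules, Coh.IsCoh Q ∧ CohB1.support Q = (glocus P s : Set X)ᶜ ∧
      topologicalKrullDim (CohB1.support Q) ≤ (r : WithBot ℕ∞) ∧
      (fun x => chiCl k (Coh.structureModule X) (InvCl.mk P hP * x) - chiCl k (Coh.structureModule X) x) =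
        chiCl k Q := by
  haveI := isNoetherian_of_proper (X := X) k
  haveI := mono_unitDesc_of_mono hP (𝟙 P) hs
  have hO : Coh.IsCoh (Coh.structureModule X) := isCoh_O k
  have hPc : Coh.IsCoh P := isCoh_iso (unitTensorIso P) (isCoh_twist hP hO)
  let S := ShortComplex.mk (unitDesc P s) (cokernel.π _) (cokernel.condition _)
  have hS : S.ShortExact :=
    { exact := ShortComplex.exact_of_g_is_cokernel _ (cokernelIsCokernel _) }
  have hQ : Coh.IsCoh (cokernel (unitDesc P s)) := isCoh_cokernel _ hO.1 hPc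
  have hsub : CohB1.support (cokernel (unitDesc P s)) ⊆ (glocus P s : Set X)ᶜ :=
    support_cokernel_unitDesc_of_mono (𝟙 P) s
  have hsup : (glocus P s : Set X)ᶜ ⊆ CohB1.support (cokernel (unitDesc P s)) := by
    intro z hz hsub'
    refine not_surjective_stalk_mulSec (Coh.structureModule X) s hP hO hz
      (by rw [support_structureModule_eq_univ]; trivial) fun w => ?_
    have hsurj : Function.Surjective ((DerSch.stalkFunctor X z).map (unitDesc P s) : _ → (P.presheaf.stalk z)) := fun v =>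
      ((ShortComplex.ShortExact.moduleCat_exact_iff_function_exact _).1
          ((ShortComplex.exact_cokernel (unitDesc P s)).map (DerSch.stalkFunctor X z)) v).1
        (hsub'.elim _ _)
    obtain ⟨v, hv⟩ := hsurj ((DerSch.stalkFunctor X z).map (unitTensorIso P).hom w)
    refine ⟨v, ?_⟩
    have hinj : Function.Injective ((DerSch.stalkFunctor X z).map (unitTensorIso P).hom) :=
      (ModuleCat.mono_iff_injective _).1 inferInstance
    apply hinj
    rw [← hv, unitDesc_eq_mulSec, Functor.map_comp]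
    rfl
  have hη : genericPoint X ∉ CohB1.support (cokernel (unitDesc P s)) := fun h => hsub h
    (genericPoint_mem_glocus hP hs)
  have hlt := dim_lt_of_notMem (isClosed_support _ (locallyFinGen_of_isFT _ hQ.2)) (Set.subset_univ _)
    isClosed_univ (genericPoint_spec X : closure ({genericPoint X} : Set X) = Set.univ) hη
    ((IsHomeomorph.topologicalKrullDim_eq _ (Homeomorph.Set.univ X).isHomeomorph).le.trans hX)
  have hd : topologicalKrullDim (CohB1.support (cokernel (unitDesc P s))) ≤ (r : WithBot ℕ∞) := by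
    generalize topologicalKrullDim (CohB1.support (cokernel (unitDesc P s))) = t at hlt
    match t with
    | ⊥ => exact bot_le
    | (t : ℕ∞) => exact WithBot.coe_le_coe.2 (ENat.lt_natCast_add_one_iff.1 (WithBot.coe_lt_coe.1 hlt))
  refine ⟨_, hQ, hsub.antisymm hsup, hd, funext fun x => ?_⟩
  have h := congrFun (chiCl_additive k S hS hO hPc hQ) x
  have e : chiCl k P x = chiCl k (Coh.structureModule X) (InvCl.mk P hP * x) := by
    rw [chiCl_mul k (Coh.structureModule X) hP x, chiCl_congr k (unitTensorIso P)]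
  change chiCl k P x = chiCl k (Coh.structureModule X) x + chiCl k (cokernel (unitDesc P s)) x at h
  rw [e] at h
  rw [h]
  ring

include k in
theorem ample_interDeg_pos [IsIntegral X] {d : ℕ} (hX : topologicalKrullDim X = (d : WithBot ℕ∞))
    {H : X.Modules} (hH : CohB1.IsAmple H) :
    0 < interDeg (fun _ : Fin d => InvCl.mk H hH.1) (chiCl k (Coh.structureModule X)) := by
  haveI := isNoetherian_of_proper (X := X) k
  exact interDeg_pos k d (fun _ => H) (fun _ => hH) (Coh.structureModule X) (isCoh_O k) (by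
      rw [support_structureModule_eq_univ]
      exact (IsHomeomorph.topologicalKrullDim_eq _ (Homeomorph.Set.univ X).isHomeomorph).trans hX)

include k in
/-- The generic member of a pencil with small base locus: irreducible zero locus. -/
theorem exists_irreducible_section [IsIntegral X] [IsIntegral (BaseRat.XK k X)] {n : ℕ}
    (hX : topologicalKrullDim X = ((n + 2 : ℕ) : WithBot ℕ∞))
    {P : X.Modules} (hP : CohB1.IsAmple P) (t₀ t₁ : Γ(P, ⊤)) (hU : IsAffineOpen (glocus P t₁))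
    (hη : genericPoint X ∈ glocus P t₁)
    (hbase : ∀ x, x ∉ glocus P t₀ → x ∉ glocus P t₁ → ptDim (X ↘ Spec (CommRingCat.of k)) x ≤ n) :
    ∃ s : Γ((Scheme.Modules.pullback (BaseRat.pr k X)).obj P, ⊤), s ≠ 0 ∧
      (∀ z, BaseRat.pr k X z ∉ glocus P t₀ → BaseRat.pr k X z ∉ glocus P t₁ → z ∉ glocus _ s) ∧
      ∃ η, η ∉ glocus _ s ∧ (glocus _ s : Set (BaseRat.XK k X))ᶜ ⊆ closure {η} := by
  classical
  let g := BaseRat.pr k X
  let q := BaseRat.XK k X ↘ Spec (CommRingCat.of (RatFunc k))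
  let P' := (Scheme.Modules.pullback g).obj P
  let τ : Γ(BaseRat.XK k X, ⊤) := Coh.toGlobal q RatFunc.X
  let a₀ : Γ(P', ⊤) := pullSec g t₀
  let a₁ : Γ(P', ⊤) := pullSec g t₁
  let σ : Γ(P', ⊤) := a₀ + τ • a₁
  have hP' : CohB1.IsAmple P' := isAmple_pullback_of_isAffineHom g hP
  have hX' : topologicalKrullDim (BaseRat.XK k X) = ((n + 2 : ℕ) : WithBot ℕ∞) :=
    (DimLib.topologicalKrullDim_bc (X ↘ Spec (CommRingCat.of k)) (RatFunc k)).trans hX
  -- the local equation
  have coefσ : ∀ {W : X.Opens} {h : Γ(P, W)} (hh : IsGen P W h),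
      glocus P' σ ⊓ g ⁻¹ᵁ W = (BaseRat.XK k X).basicOpen
        (g.app W (hh.coef le_rfl (resM P le_top t₀)) + BaseRat.resT k (g ⁻¹ᵁ W) RatFunc.X *
          g.app W (hh.coef le_rfl (resM P le_top t₁))) := by
    intro W h hh
    have hh' : IsGen P' (g ⁻¹ᵁ W) (pullSec g h) := isGen_pullSec g hh hP.1
    rw [glocus_inf σ hh']
    congr 1
    refine IsGen.coef_eq _ _ ?_
    have e : ∀ t : Γ(P, ⊤), g.app W (hh.coef le_rfl (resM P le_top t)) • pullSec g h =
        resM P' (le_top : g ⁻¹ᵁ W ≤ ⊤) (show Γ(P', ⊤) from pullSec g t) := by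
      intro t
      have e1 := hh.coef_spec le_rfl (resM P le_top t)
      rw [resM_self] at e1
      rw [← pullSec_smul, e1]
      exact (resM_pullSec g (le_top : W ≤ ⊤) t).symm
    rw [resM_self, add_smul, mul_smul, e, e]
    show resM P' le_top a₀ + BaseRat.resT k (g ⁻¹ᵁ W) RatFunc.X • resM P' le_top a₁ =
      resM P' le_top (a₀ + τ • a₁)
    rw [map_add, resM_smul]
    rfl
  have hb : ∀ {W : X.Opens} {h : Γ(P, W)} (hh : IsGen P W h) {z} (hzW : g z ∈ W) (t : Γ(P, ⊤)),
      g z ∈ glocus P t ↔ z ∈ (BaseRat.XK k X).basicOpen (g.app W (hh.coef le_rfl (resM P le_top t))) := by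
    intro W h hh z hzW t
    rw [← Scheme.preimage_basicOpen]
    show _ ↔ g z ∈ X.basicOpen (hh.coef le_rfl (resM P le_top t))
    rw [← glocus_inf t hh]
    exact ⟨fun h => ⟨h, hzW⟩, fun h => h.1⟩
  -- the base locus is contained in the member
  have hin0 : ∀ z, g z ∉ glocus P t₀ → g z ∉ glocus P t₁ → z ∉ glocus P' σ := by
    intro z h0 h1 hz
    obtain ⟨W, hzW, h, hh⟩ := exists_isGen hP.1 (g z)
    have hzW' : z ∈ g ⁻¹ᵁ W := hzW
    have hsum := (coefσ hh).le ⟨hz, hzW'⟩
    rw [Scheme.mem_basicOpen _ _ _ hzW', map_add, map_mul] at hsum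
    have u : ∀ t, g z ∉ glocus P t → (BaseRat.XK k X).presheaf.germ (g ⁻¹ᵁ W) z hzW'
        (g.app W (hh.coef le_rfl (resM P le_top t))) ∈
          IsLocalRing.maximalIdeal ((BaseRat.XK k X).presheaf.stalk z) := fun t ht hu =>
      ht ((hb hh hzW t).2 ((Scheme.mem_basicOpen _ _ _ hzW').2 hu))
    exact (IsLocalRing.mem_maximalIdeal _).1
      (Ideal.add_mem _ (u t₀ h0) (Ideal.mul_mem_left _ _ (u t₁ h1))) hsum
  -- outside the affine piece
  have hout : ∀ z, z ∉ glocus P' σ → g z ∉ glocus P t₁ → g z ∉ glocus P t₀ := by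
    intro z hz h1 h0
    obtain ⟨W, hzW, h, hh⟩ := exists_isGen hP.1 (g z)
    have hzW' : z ∈ g ⁻¹ᵁ W := hzW
    have hsum : z ∈ (BaseRat.XK k X).basicOpen
        (g.app W (hh.coef le_rfl (resM P le_top t₀)) + BaseRat.resT k (g ⁻¹ᵁ W) RatFunc.X *
          g.app W (hh.coef le_rfl (resM P le_top t₁))) := by
      rw [Scheme.mem_basicOpen _ _ _ hzW', map_add, map_mul]
      have u0 := (Scheme.mem_basicOpen _ _ _ hzW').1 ((hb hh hzW t₀).1 h0)
      have u1 : (BaseRat.XK k X).presheaf.germ (g ⁻¹ᵁ W) z hzW' (g.app W (hh.coef le_rfl (resM P le_top t₁))) ∈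
          IsLocalRing.maximalIdeal ((BaseRat.XK k X).presheaf.stalk z) := fun hu =>
        h1 ((hb hh hzW t₁).2 ((Scheme.mem_basicOpen _ _ _ hzW').2 hu))
      by_contra hu
      have := Ideal.sub_mem _ ((IsLocalRing.mem_maximalIdeal _).2 hu) (Ideal.mul_mem_left _
        ((BaseRat.XK k X).presheaf.germ (g ⁻¹ᵁ W) z hzW' (BaseRat.resT k (g ⁻¹ᵁ W) RatFunc.X)) u1)
      rw [add_sub_cancel_right] at this
      exact this u0
    exact hz ((coefσ hh).ge hsum).1
  -- inside the affine open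
  let U := glocus P t₁
  let V : (BaseRat.XK k X).Opens := g ⁻¹ᵁ U
  have hV : IsAffineOpen V := hU.preimage g
  have hhU : IsGen P U (resM P le_top t₁) := isGen_glocus t₁
  let R := Γ(X, U)
  letI : Algebra k R := (BaseRat.resK k U).toAlgebra
  haveI : Nonempty U := ⟨⟨_, hη⟩⟩
  let f : R := hhU.coef le_rfl (resM P le_top t₀)
  obtain ⟨e, he₁, he₂⟩ := BaseRat.exists_sectionEquiv k hU
  let r₀ : TensorProduct k R (RatFunc k) :=
    (1 : R) ⊗ₜ[k] (RatFunc.X : RatFunc k) + f ⊗ₜ[k] (1 : RatFunc k)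
  have hin : glocus P' σ ⊓ V = (BaseRat.XK k X).basicOpen (e r₀) := by
    rw [coefσ hhU]
    congr 1
    have h1 : hhU.coef le_rfl (resM P le_top t₁) = 1 := hhU.coef_eq _ (by rw [one_smul, resM_self])
    rw [h1, map_one, mul_one, map_add, he₁, he₂, add_comm]
  have hσ0 : σ ≠ 0 := by
    intro h0
    refine RatTensor.X_add_ne_zero k R f (e.injective ?_)
    rw [map_zero]
    have hh' : IsGen P' V (pullSec g (resM P le_top t₁)) := isGen_pullSec g hhU hP.1
    haveI : IsIntegral (V : Scheme.{u}) := BaseRat.isIntegral_preimage k hU inferInstance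
    refine (basicOpen_eq_bot_iff _).1 ?_
    rw [← hin, glocus_inf σ hh', h0, map_zero, hh'.coef_eq _ (zero_smul _ _), Scheme.basicOpen_zero]
  have hgen : ptDim q (genericPoint (BaseRat.XK k X)) = n + 2 := by
    have h := topologicalKrullDim_eq_ptDim_genericPoint q
    rw [hX'] at h
    exact_mod_cast h.symm
  have hmax : ∀ z, z ∉ glocus P' σ → ∃ w, w ∉ glocus P' σ ∧ w ⤳ z ∧ w ∈ V := by
    intro z hz
    obtain ⟨w, hw, hwz, hwmax⟩ := DimLib.exists_maximal_mem q (S := (glocus P' σ : Set (BaseRat.XK k X))ᶜ)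
      (η := genericPoint (BaseRat.XK k X)) hz (fun w _ _ => genericPoint_specializes w)
    refine ⟨w, hw, hwz, ?_⟩
    by_contra hwV
    have hw0 := hbase (g w) (hout w hw hwV) hwV
    have hle : ptDim q w ≤ ptDim (X ↘ Spec (CommRingCat.of k)) (g w) :=
      ptDim_bc_le (X ↘ Spec (CommRingCat.of k)) (RatFunc k) w
    obtain ⟨W₀, hwW₀, g₀, hg₀⟩ := exists_isGen hP'.1 w
    obtain ⟨W, hW, hwW, hWW₀⟩ := exists_isAffineOpen_mem_and_subset (x := w) (U := W₀) hwW₀
    have hg := hg₀.restrict (show W ≤ W₀ from hWW₀)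
    let c := hg.coef le_rfl (resM P' le_top σ)
    have hbo : glocus P' σ ⊓ W = (BaseRat.XK k X).basicOpen c := glocus_inf σ hg
    have h1 := ptDim_le_add_of_minimal_zero q hW {c} (genericPoint_specializes w) hwW
      (fun r hr => by
        rw [Finset.mem_singleton.1 hr]
        intro h
        rw [← hbo] at h
        exact hw h.1)
      (fun y _ hyw hyW hyc => (hwmax y (fun hyU =>
        hyc c (Finset.mem_singleton_self c) (hbo ▸ ⟨hyU, hyW⟩)) hyw).symm)
    rw [Finset.card_singleton, hgen] at h1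
    omega
  have hne : ∃ z, z ∉ glocus P' σ := by
    by_contra h
    push Not at h
    obtain ⟨Q, hQ, hsupp, -, hdiff⟩ := exists_cut (RatFunc k) (r := n + 1) hX'.le hP'.1 hσ0
    have hemp : CohB1.support Q = ∅ := hsupp.trans (Set.eq_empty_iff_forall_notMem.2 fun z hz => hz (h z))
    have hd : topologicalKrullDim (CohB1.support Q) < ((n + 1 : ℕ) : WithBot ℕ∞) := by
      rw [hemp]
      haveI : IsEmpty (IrreducibleCloseds (∅ : Set (BaseRat.XK k X))) := ⟨fun A => A.2.1.elim fun a _ => a.2⟩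
      show Order.krullDim _ < _
      rw [Order.krullDim_eq_bot]
      exact WithBot.bot_lt_coe _
    have hpos := ample_interDeg_pos (RatFunc k) hX' hP'
    rw [const_eq_cons, interDeg_cons, hdiff,
      interDeg_eq_zero _ (finDeg_chiCl (RatFunc k) hQ hd)] at hpos
    exact lt_irrefl _ hpos
  -- points of the affine piece are primes
  have hpt : ∀ (Q : PrimeSpectrum Γ(BaseRat.XK k X, V)),
      hV.fromSpec Q ∈ glocus P' σ ↔ e r₀ ∉ Q.asIdeal := by
    intro Q
    have hQV : hV.fromSpec Q ∈ V := hV.range_fromSpec.le ⟨Q, rfl⟩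
    refine Iff.trans ⟨fun h => hin.le ⟨h, hQV⟩, fun h => (hin.ge h).1⟩ ?_
    exact iff_of_eq (congrArg (Q ∈ ·) (hV.fromSpec_preimage_basicOpen (e r₀)))
  obtain ⟨z₀, hz₀⟩ := hne
  obtain ⟨w₀, hw₀, -, hw₀V⟩ := hmax z₀ hz₀
  obtain ⟨Q₀, hQ₀⟩ : w₀ ∈ Set.range hV.fromSpec := by rw [hV.range_fromSpec]; exact hw₀V
  obtain ⟨q₀, hq₀, hrq₀, hleast⟩ := RatTensor.exists_least_prime k R f
    ⟨Ideal.comap e.toRingHom (show PrimeSpectrum Γ(BaseRat.XK k X, V) from Q₀).asIdeal, inferInstance, by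
      have := (hpt Q₀).not.1 (hQ₀ ▸ hw₀)
      exact not_not.1 this⟩
  let Qη : PrimeSpectrum Γ(BaseRat.XK k X, V) := ⟨Ideal.comap e.symm.toRingHom q₀, inferInstance⟩
  refine ⟨σ, hσ0, hin0, hV.fromSpec Qη, (hpt Qη).not.2 (not_not.2 ?_), fun z hz => ?_⟩
  · show e.symm (e r₀) ∈ q₀
    rwa [e.symm_apply_apply]
  · obtain ⟨w, hw, hwz, hwV⟩ := hmax z hz
    obtain ⟨Q, rfl⟩ : w ∈ Set.range hV.fromSpec := by rw [hV.range_fromSpec]; exact hwV
    refine specializes_iff_mem_closure.1 (Specializes.trans ?_ hwz)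
    refine ((PrimeSpectrum.le_iff_specializes Qη Q).1 fun x hx => ?_).map hV.fromSpec.continuous
    have h2 := hleast (Ideal.comap e.toRingHom (show PrimeSpectrum Γ(BaseRat.XK k X, V) from Q).asIdeal)
      inferInstance (not_not.1 ((hpt Q).not.1 hw)) hx
    have h3 : e (e.symm x) ∈ (show PrimeSpectrum Γ(BaseRat.XK k X, V) from Q).asIdeal := h2
    rwa [e.apply_symm_apply] at h3

include k in
/-- Two sections of a power of an ample module through a small closed set, with small common zeros. -/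
theorem exists_pencil [IsIntegral X] {n : ℕ} (hX : topologicalKrullDim X = ((n + 2 : ℕ) : WithBot ℕ∞))
    {H : X.Modules} (hH : CohB1.IsAmple H) {T : Set X} (hT : IsClosed T)
    (hTd : ∀ z ∈ T, ptDim (X ↘ Spec (CommRingCat.of k)) z ≤ n) :
    ∃ N : ℕ, 0 < N ∧ ∃ t₀ t₁ : Γ(CohB1.tensorPow H N, ⊤), IsAffineOpen (glocus _ t₁) ∧
      genericPoint X ∈ glocus _ t₁ ∧ (∀ z ∈ T, z ∉ glocus _ t₀ ∧ z ∉ glocus _ t₁) ∧
      ∀ x, x ∉ glocus _ t₀ → x ∉ glocus _ t₁ → ptDim (X ↘ Spec (CommRingCat.of k)) x ≤ n := by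
  classical
  haveI := isNoetherian_of_proper (X := X) k
  let p := X ↘ Spec (CommRingCat.of k)
  have hgen : ptDim p (genericPoint X) = n + 2 := by
    have h := topologicalKrullDim_eq_ptDim_genericPoint p
    rw [hX] at h
    exact_mod_cast h.symm
  let U : X.Opens := ⟨Tᶜ, hT.isOpen_compl⟩
  have hηU : genericPoint X ∈ U := fun h => by
    have := hTd _ h
    change ptDim p (genericPoint X) ≤ n at this
    omega
  obtain ⟨a, ha, b₁, hηb₁, hb₁U, hb₁⟩ :=
    exists_affine_glocus_finite (U := U) hH {genericPoint X} (Set.finite_singleton _)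
      (Set.singleton_subset_iff.2 hηU)
  replace hηb₁ : genericPoint X ∈ glocus _ b₁ := hηb₁ rfl
  let Z : Set X := (glocus _ b₁ : Set X)ᶜ
  have hZ : IsClosed Z := (glocus _ b₁).2.isClosed_compl
  have hle : ∀ z ∈ Z, ptDim p z ≤ n + 1 := by
    intro z hz
    have hlt := ptDim_lt_of_specializes p (genericPoint_specializes z)
      (fun h => hz (h ▸ hηb₁))
    rw [hgen] at hlt
    omega
  let M : Set X := {z ∈ Z | ptDim p z = n + 1}
  have hM : M.Finite := by
    have hd : topologicalKrullDim Z ≤ ((n + 1 : ℕ) : WithBot ℕ∞) := by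
      rw [topologicalKrullDim_closed_eq_iSup p hZ]
      exact iSup_le fun z => by exact_mod_cast hle z.1 z.2
    refine (finite_top_points hZ hd).subset fun z hz => ⟨hz.1, ?_⟩
    rw [dim_closure_eq_ptDim k]
    exact_mod_cast hz.2
  have hMU : M ⊆ (U : Set X) := fun z hz h => by
    have h1 : ptDim p z = n + 1 := hz.2
    have h2 := hTd z h
    change ptDim p z ≤ n at h2
    omega
  obtain ⟨m, hm, b₀, hMb₀, hb₀U, -⟩ := exists_affine_glocus_finite (U := U) hH M hM hMU
  have key : ∀ l, l = a * m → ∀ b : Γ(CohB1.tensorPow H l, ⊤),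
      ∃ c : Γ(CohB1.tensorPow H (a * m), ⊤), glocus _ c = glocus _ b := by
    rintro _ rfl b; exact ⟨b, rfl⟩
  obtain ⟨c₁, hc₁⟩ := exists_glocus_pow hH.1 a b₁ m hm
  obtain ⟨c₀', hc₀'⟩ := exists_glocus_pow hH.1 m b₀ a ha
  obtain ⟨c₀, hc₀⟩ := key _ (mul_comm m a) c₀'
  refine ⟨a * m, Nat.mul_pos ha hm, c₀, c₁, hc₁ ▸ hb₁, hc₁ ▸ hηb₁, fun z hz => ⟨?_, ?_⟩, fun x h0 h1 => ?_⟩
  · rw [hc₀, hc₀']
    exact fun h => hb₀U h hz
  · rw [hc₁]
    exact fun h => hb₁U h hz
  rw [hc₁] at h1
  rw [hc₀, hc₀'] at h0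
  have h := hle x h1
  by_contra hne
  exact h0 (hMb₀ ⟨h1, by change ¬ ptDim p x ≤ n at hne; omega⟩)

end Groth.Agent.HodgeQ27
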