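import Groth.Agent.Mumford23.Section
import Groth.Agent.Mumford23.Main
import Groth.Agent.CurveRR24.Sky
import Groth.Agent.Coherent.ProjSpaceFinite
import Groth.Agent.Coherent.ProjSpaceTwist
import Groth.Agent.CAlgH3.PSheafPres
import Groth.Agent.SerreDual.Projective
import Groth.Agent.CurveRR24.RR

/-!
# Sections drop strictly under twisting down when no associated point is closed
-/

set_option autoImplicit false
set_option linter.style.haveILetI false
set_option backward.isDefEq.respectTransparency.types false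

universe u

open CategoryTheory CategoryTheory.Limits AlgebraicGeometry TopologicalSpace Opposite MvPolynomial
open Groth.Agent.Coherent Groth.Agent.PicLib Groth.Agent.AmpleLib Groth.Agent.CAlgH3 Groth.Agent.CAlgH3.PTilde
open Groth.Agent.CAlgH3.PSheaf Groth.Agent.CAlgH3.PSheafSeq Groth.Agent.CAlgH3.PSheafGen
open Groth.Agent.CAlgH3.ModCohSeq

namespace Groth.Agent.HodgeQ27

/-- Two injective maps of which every difference is injective raise the dimension. -/
theorem finrank_lt_of_pencil {k V W : Type*} [Field k] [IsAlgClosed k] [AddCommGroup V] [Module k V]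
    [AddCommGroup W] [Module k W] [Module.Finite k W] [Nontrivial W] (f g : V →ₗ[k] W)
    (hg : Function.Injective g) (h : ∀ c : k, Function.Injective (f - c • g)) :
    Module.finrank k V + 1 ≤ Module.finrank k W := by
  haveI : Module.Finite k V := Module.Finite.of_injective g hg
  by_contra hlt
  have hle := LinearMap.finrank_le_finrank_of_injective hg
  have heq : Module.finrank k V = Module.finrank k W := by omega
  haveI : Nontrivial V := Module.nontrivial_of_finrank_pos (R := k) (by rw [heq]; exact Module.finrank_pos)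
  let e := LinearEquiv.ofBijective g ⟨hg, (LinearMap.injective_iff_surjective_of_finrank_eq_finrank heq).1 hg⟩
  obtain ⟨c, hc⟩ := Module.End.exists_eigenvalue (e.symm.toLinearMap.comp f : Module.End k V)
  obtain ⟨v, hv⟩ := hc.exists_hasEigenvector
  refine hv.2 (h c ?_)
  have h1 : e.symm (f v) = c • v := hv.apply_eq_smul
  have h2 : f v = c • g v := by
    rw [← e.apply_symm_apply (f v), h1, map_smul]
    rfl
  show (f - c • g) v = (f - c • g) 0
  rw [map_zero, LinearMap.sub_apply, LinearMap.smul_apply, h2, sub_self]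

variable {k : Type u} [Field k] {N : ℕ}

/-- The linear form with given coefficients. -/
noncomputable def linF : (Fin (N + 1) → k) →ₗ[k] MvPolynomial (Fin (N + 1)) k :=
  Fintype.linearCombination k fun l => X l

theorem linF_mem (c : Fin (N + 1) → k) : linF c ∈ CohB1.polyGrading N k 1 := by
  simp only [linF, Fintype.linearCombination_apply]
  exact sum_mem fun l _ => Submodule.smul_mem _ _ (ProjLib.X_mem_polyGrading N k l)

/-- The linear forms vanishing at a point. -/
noncomputable def vForms (x : CohB1.ProjSpace N k) : Submodule k (Fin (N + 1) → k) :=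
  ((show ProjectiveSpectrum (CohB1.polyGrading N k) from x).asHomogeneousIdeal.toIdeal.restrictScalars k).comap linF

theorem linF_single (l : Fin (N + 1)) : linF (Pi.single l (1 : k)) = X l := by
  rw [linF, Fintype.linearCombination_apply_single, one_smul]

theorem vForms_ne_top (x : CohB1.ProjSpace N k) : vForms x ≠ ⊤ := fun h => by
  obtain ⟨l, hl⟩ := exists_var_notMem (show ProjectiveSpectrum (CohB1.polyGrading N k) from x)
  have hmem : linF (Pi.single l 1) ∈
      (show ProjectiveSpectrum (CohB1.polyGrading N k) from x).asHomogeneousIdeal.toIdeal :=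
    Submodule.eq_top_iff'.1 h (Pi.single l 1)
  rw [linF_single] at hmem
  exact hl hmem

/-- A point whose linear forms have codimension one is closed. -/
theorem isClosed_of_codim_one (x : CohB1.ProjSpace N k) (v : Fin (N + 1) → k)
    (h : vForms x ⊔ Submodule.span k {v} = ⊤) : IsClosed ({x} : Set (CohB1.ProjSpace N k)) := by
  let p := (show ProjectiveSpectrum (CohB1.polyGrading N k) from x)
  have hdec : ∀ l, ∃ a : k, X l - C a * linF v ∈ p.asHomogeneousIdeal.toIdeal := fun l => by
    obtain ⟨w, hw, z, hz, hwz⟩ := Submodule.mem_sup.1 (h.ge (Submodule.mem_top (x := Pi.single l (1 : k))))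
    obtain ⟨a, rfl⟩ := Submodule.mem_span_singleton.1 hz
    refine ⟨a, ?_⟩
    have e : linF w = X l - C a * linF v := by
      rw [← linF_single l, ← hwz, map_add, map_smul, MvPolynomial.smul_eq_C_mul]
      ring
    rw [← e]
    exact hw
  choose a ha using hdec
  have hv : linF v ∉ p.asHomogeneousIdeal.toIdeal := fun hm => by
    obtain ⟨l, hl⟩ := exists_var_notMem p
    have := Ideal.add_mem _ (ha l) (Ideal.mul_mem_left _ (C (a l)) hm)
    rw [sub_add_cancel] at this
    exact hl this
  -- homogeneous elements of any larger prime with the same forms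
  have key : ∀ (I : Ideal (MvPolynomial (Fin (N + 1)) k)) [I.IsPrime], p.asHomogeneousIdeal.toIdeal ≤ I →
      linF v ∉ I → ∀ (d : ℕ) (f : MvPolynomial (Fin (N + 1)) k), f.IsHomogeneous d → (f ∈ I ↔ eval a f = 0) := by
    intro I _ hle hvI d f hf
    let π := Ideal.Quotient.mk I
    have hXl : ∀ l, π (X l) = π (C (a l)) * π (linF v) := fun l => by
      rw [← map_mul, Ideal.Quotient.mk_eq_mk_iff_sub_mem]
      exact hle (ha l)
    have e : π f = π (C (eval a f)) * π (linF v) ^ d := by
      conv_lhs => rw [f.as_sum, map_sum]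
      rw [eval_eq, map_sum C, map_sum π, Finset.sum_mul]
      refine Finset.sum_congr rfl fun s hs => ?_
      have hsd : ∑ i ∈ s.support, s i = d := by
        have := hf (mem_support_iff.1 hs)
        simpa [Finsupp.weight_apply, Finsupp.sum] using this
      rw [monomial_eq, Finsupp.prod, map_mul, map_prod π, map_mul C, map_prod C, map_mul π, map_prod π, mul_assoc,
        ← hsd, ← Finset.prod_pow_eq_pow_sum, ← Finset.prod_mul_distrib]
      refine congrArg _ (Finset.prod_congr rfl fun i _ => ?_)
      rw [map_pow, hXl, map_pow, map_pow, mul_pow]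
    constructor
    · intro hfI
      by_contra hne
      rw [Ideal.Quotient.eq_zero_iff_mem.2 hfI, ← map_pow, ← map_mul, eq_comm, Ideal.Quotient.eq_zero_iff_mem] at e
      rcases Ideal.IsPrime.mem_or_mem ‹_› e with h1 | h1
      · exact Ideal.IsPrime.ne_top ‹_› (Ideal.eq_top_of_isUnit_mem _ h1 ((isUnit_iff_ne_zero.2 hne).map C))
      · exact hvI (Ideal.IsPrime.mem_of_pow_mem ‹_› _ h1)
    · intro h0
      rw [h0, map_zero, map_zero, zero_mul] at e
      exact Ideal.Quotient.eq_zero_iff_mem.1 e
  rw [← closure_subset_iff_isClosed]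
  intro y hy
  let q := (show ProjectiveSpectrum (CohB1.polyGrading N k) from y)
  have hpq : p ≤ q := (ProjectiveSpectrum.le_iff_mem_closure (𝒜 := CohB1.polyGrading N k) p q).2 hy
  have hle : p.asHomogeneousIdeal.toIdeal ≤ q.asHomogeneousIdeal.toIdeal := hpq
  haveI := p.isPrime
  haveI := q.isPrime
  have hvq : linF v ∉ q.asHomogeneousIdeal.toIdeal := fun hm => by
    obtain ⟨l, hl⟩ := exists_var_notMem q
    have := Ideal.add_mem _ (hle (ha l)) (Ideal.mul_mem_left _ (C (a l)) hm)
    rw [sub_add_cancel] at this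
    exact hl this
  classical
  have hqp : q.asHomogeneousIdeal.toIdeal ≤ p.asHomogeneousIdeal.toIdeal := fun f hf => by
    rw [← DirectSum.sum_support_decompose (CohB1.polyGrading N k) f]
    refine sum_mem fun d _ => ?_
    have hd : ((DirectSum.decompose (CohB1.polyGrading N k) f d : _) : MvPolynomial (Fin (N + 1)) k).IsHomogeneous d :=
      SetLike.coe_mem (DirectSum.decompose (CohB1.polyGrading N k) f d)
    exact (key _ le_rfl hv d _ hd).2 ((key _ hle hvq d _ hd).1 (q.asHomogeneousIdeal.isHomogeneous d hf))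
  show y = x
  exact ProjectiveSpectrum.ext (HomogeneousIdeal.ext (le_antisymm hqp hle))

theorem ass_twist (F : (CohB1.ProjSpace N k).Modules) {L : (CohB1.ProjSpace N k).Modules} (hL : PicF.IsInvertible L) :
    AssSch.Ass (CohB1.tensorMod F L) ⊆ AssSch.Ass F := fun x hx => by
  obtain ⟨W, hxW, g, hg⟩ := exists_isGen hL x
  exact (LinearEquiv.isAssociatedPrime_iff (EulerLib.twistStalkIso hxW hg F).toLinearEquiv).2 hx

/-- **Sections drop strictly**: without closed associated points `h⁰(F(-1)) < h⁰(F)` for nonzero `h⁰(F)`. -/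
theorem h0_twist_neg_lt [IsAlgClosed k] {F : (CohB1.ProjSpace N k).Modules} (hF : Coh.IsCoh F)
    (hass : ∀ x ∈ AssSch.Ass F, ¬ IsClosed ({x} : Set (CohB1.ProjSpace N k)))
    (h0 : 1 ≤ Module.finrank k (Coh.HH (CohB1.ProjSpace N k) F 0)) :
    Module.finrank k (Coh.HH (CohB1.ProjSpace N k) (CohB1.tensorMod F (Twist.twistProjSpace N k (-1))) 0) + 1 ≤
      Module.finrank k (Coh.HH (CohB1.ProjSpace N k) F 0) := by
  let P := CohB1.ProjSpace N k
  let O1 := Twist.twistProjSpace N k 1
  let G := CohB1.tensorMod F (Twist.twistProjSpace N k (-1))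
  have hG : Coh.IsCoh G := isCoh_twistProj hF (-1)
  have hfin : (AssSch.Ass F).Finite := AssSch12.finite_ass F hF
  haveI := hfin.to_subtype
  obtain ⟨v₁, hv₁⟩ := Submodule.exists_forall_notMem_of_forall_ne_top
    (fun x : AssSch.Ass F => vForms x.1) (fun x => vForms_ne_top x.1)
  obtain ⟨v₂, hv₂⟩ := Submodule.exists_forall_notMem_of_forall_ne_top
    (fun x : AssSch.Ass F => vForms x.1 ⊔ Submodule.span k {v₁})
    (fun x h => hass x.1 x.2 (isClosed_of_codim_one x.1 v₁ h))
  have hpencil : ∀ c : k, ∀ x : AssSch.Ass F, v₁ - c • v₂ ∉ vForms x.1 := by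
    intro c x hx
    rcases eq_or_ne c 0 with rfl | hc
    · rw [zero_smul, sub_zero] at hx
      exact hv₁ x hx
    refine hv₂ x ?_
    have : v₂ = c⁻¹ • v₁ - c⁻¹ • (v₁ - c • v₂) := by
      rw [smul_sub, smul_smul, inv_mul_cancel₀ hc, one_smul, sub_sub_cancel]
    show v₂ ∈ vForms x.1 ⊔ Submodule.span k {v₁}
    rw [this]
    exact Submodule.sub_mem _ (Submodule.smul_mem _ _ (Submodule.mem_sup_right (Submodule.mem_span_singleton_self _)))
      (Submodule.smul_mem _ _ (Submodule.mem_sup_left hx))
  -- multiplication by forms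
  obtain ⟨e⟩ : Nonempty (CohB1.tensorMod G O1 ≅ F) := by
    obtain ⟨e₁⟩ := nonempty_twist_assoc hF.1 (show (-1 : ℤ) + 1 = 0 by ring)
    obtain ⟨e₂⟩ := CAlgH3.PSheafPres.nonempty_twist_zero hF.1
    exact ⟨e₁ ≪≫ e₂⟩
  let b : (Fin (N + 1) → k) → Γ(O1, (⊤ : P.Opens)) := fun v =>
    show Γ(GrTwist.twist (CohB1.polyGrading N k) 1, (⊤ : P.Opens)) from
      GrTwist.globalOf (CohB1.polyGrading N k) (i := 1) ⟨linF v, linF_mem v⟩
  let φ := baseHom k P
  let μ : (Fin (N + 1) → k) → (GA φ G →ₗ[k] GA φ F) := fun v =>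
    mapGA φ (EulerLib.mulSec G (b v) ≫ e.hom)
  have hinj : ∀ v, (∀ x : AssSch.Ass F, v ∉ vForms x.1) → Function.Injective (μ v) := by
    intro v hv
    haveI := Mumford23.mono_mulSec hG.1 (b v) fun x hx => by
      have h := RelVALib.glocus_globalOf_deg (𝒜 := CohB1.polyGrading N k) PSheafGen.covers (d := 1) (linF_mem v)
      exact h.ge (hv ⟨x, ass_twist F (SerreDual.isInvertible_twist N k (-1)) hx⟩ :
        (show ProjectiveSpectrum (CohB1.polyGrading N k) from x) ∈ Proj.basicOpen (CohB1.polyGrading N k) (linF v))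
    exact Coherent.app_injective_of_mono (EulerLib.mulSec G (b v) ≫ e.hom) ⊤
  have hb : ∀ c : k, b (v₁ - c • v₂) = b v₁ - φ c • b v₂ := fun c => by
    refine Coherent.sectN_ext fun x => ?_
    show Localization.mk (linF (v₁ - c • v₂)) 1 =
      Localization.mk (linF v₁) 1 - (HomogeneousLocalization.val
        (((CohB1.ProjSpace.toSpec N k).appTop ((Scheme.ΓSpecIso (CommRingCat.of k)).inv c) :
          Twist.O (𝒜 := CohB1.polyGrading N k) (op ⊤)).1 x)) * Localization.mk (linF v₂) 1
    rw [Coherent.val_toGlobal, map_sub, map_smul, MvPolynomial.smul_eq_C_mul]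
    simp only [Localization.mk_one_eq_algebraMap, map_sub, map_mul]
  have hlin : ∀ c : k, μ (v₁ - c • v₂) = μ v₁ - c • μ v₂ := fun c => LinearMap.ext fun a => by
    let w : Γ(O1, (⊤ : P.Opens)) → Γ(F, (⊤ : P.Opens)) := fun t =>
      e.hom.app ⊤ (tmul (show Γ(G, (⊤ : P.Opens)) from a) (resM O1 le_top t))
    have hμ : ∀ v, μ v a = w (b v) := fun v => by
      show (EulerLib.mulSec G (b v) ≫ e.hom).app ⊤ _ = _
      rw [Scheme.Modules.Hom.comp_app, ConcreteCategory.comp_apply, EulerLib.mulSec_app]
    rw [LinearMap.sub_apply, LinearMap.smul_apply, hμ, hμ, hμ, hb]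
    show w _ = (show Γ(F, (⊤ : P.Opens)) from w (b v₁)) - φ c • (show Γ(F, (⊤ : P.Opens)) from w (b v₂))
    simp only [w, resM_self]
    rw [sub_eq_add_neg, ← neg_smul, tmul_add_right, tmul_smul_right, map_add]
    erw [e.hom.app_smul]
    rw [neg_smul, ← sub_eq_add_neg]
  haveI : Nontrivial (GA φ F) := by
    haveI : Nontrivial (Coh.HH P F 0) := Module.nontrivial_of_finrank_pos (R := k) h0
    exact (CurveRR24.hhZero k F).symm.toEquiv.nontrivial
  haveI : Module.Finite k (Coh.HH P F 0) := CurveRR24.finite_HH_of_isCoh k hF 0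
  haveI : Module.Finite k (GA φ F) := Module.Finite.equiv (CurveRR24.hhZero k F)
  rw [(CurveRR24.hhZero k G).finrank_eq, (CurveRR24.hhZero k F).finrank_eq]
  refine finrank_lt_of_pencil (μ v₁) (μ v₂) (hinj v₂ fun x hx => hv₂ x (Submodule.mem_sup_left hx)) fun c => ?_
  rw [← hlin]
  exact hinj _ (hpencil c)

end Groth.Agent.HodgeQ27
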