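import Groth.Agent.HodgeQ27.Cut
import Groth.Agent.Surf15.Transfer
import Groth.Agent.NumTriv23.Basic
import Groth.Agent.EulerLib.FieldExt
import Groth.Agent.Coherent.SupportPullback
import Groth.Agent.NumSec27.BaseChange

/-!
# The index theorem in any dimension
-/

set_option autoImplicit false
set_option linter.style.haveILetI false
set_option backward.isDefEq.respectTransparency.types false

universe u

open CategoryTheory CategoryTheory.Limits AlgebraicGeometry Opposite TopologicalSpace
open Groth.Agent.Coherent Groth.Agent.PicLib Groth.Agent.AmpleLib Groth.Agent.EulerLib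
open Groth.Agent.CurveRR24 Groth.Agent.DimLib Groth.Agent.AssSch12 Groth.Agent.AbCubeLib
open Groth.Agent.Surf15 Groth.Agent.VarietyLib

namespace Groth.Agent.HodgeQ27

/-- The index property in dimension `n + 2`, over all fields. -/
def Index (n : ℕ) : Prop :=
  ∀ (k : Type u) [Field k] (X : Scheme.{u}) [X.Over (Spec (CommRingCat.of k))]
    [IsProper (X ↘ Spec (CommRingCat.of k))] [IsIntegral X],
    topologicalKrullDim X = ((n + 2 : ℕ) : WithBot ℕ∞) →
    ∀ (H : X.Modules) (hH : CohB1.IsAmple H) (l : InvCl X),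
      interDeg (Fin.cons l (fun _ => InvCl.mk H hH.1) : Fin (n + 2) → InvCl X)
        (chiCl k (Coh.structureModule X)) = 0 →
      interDeg (Fin.cons l (Fin.cons l (fun _ => InvCl.mk H hH.1)) : Fin (n + 2) → InvCl X)
          (chiCl k (Coh.structureModule X)) ≤ 0 ∧
        (interDeg (Fin.cons l (Fin.cons l (fun _ => InvCl.mk H hH.1)) : Fin (n + 2) → InvCl X)
            (chiCl k (Coh.structureModule X)) = 0 →
          ∀ y : X, topologicalKrullDim (closure {y} : Set X) = ((1 : ℕ) : WithBot ℕ∞) →
            deg k (clM y) l = 0)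

theorem index_zero : Index.{u} 0 := by
  intro k _ X _ _ _ hX H hH l h1
  haveI := isNoetherian_of_proper (X := X) k
  set h := InvCl.mk H hH.1
  have e1 : B k l h = 0 := by
    rw [B_eq_interDeg, ← h1]
    congr 1
    funext i
    fin_cases i <;> rfl
  have e2 : interDeg (Fin.cons l (Fin.cons l (fun _ => h)) : Fin (0 + 2) → InvCl X)
      (chiCl k (Coh.structureModule X)) = B k l l := by
    rw [B_eq_interDeg]
    congr 1
    funext i
    fin_cases i <;> rfl
  rw [e2]
  refine ⟨B_self_nonpos k hX hH l e1, fun h0 y hy => ?_⟩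
  exact deg_clM_eq_zero_of_index k hX (a := h) (B_ample_pos k hX hH hH) (by rw [B_comm]; exact e1) h0.ge hy

variable {X : Scheme.{u}} (k : Type u) [Field k] [X.Over (Spec (CommRingCat.of k))]
  [IsProper (X ↘ Spec (CommRingCat.of k))]

include k in
theorem chiCl_bc {F : X.Modules} (hF : Coh.IsCoh F) (x : InvCl X) :
    chiCl (RatFunc k) ((Scheme.Modules.pullback (BaseRat.pr k X)).obj F) (VarietyLib.pullHom (BaseRat.pr k X) x) =
      chiCl k F x := by
  haveI := isNoetherian_of_proper (X := X) k
  obtain ⟨L, hL, rfl⟩ := InvCl.exists_rep x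
  rw [pullHom_mk, chiCl_mk, chiCl_mk]
  exact (euler_congr (RatFunc k) (BaseRat.XK k X) (DCat.PullTensor.pullTensorIso (BaseRat.pr k X) F L)).symm.trans
    (euler_bc k (RatFunc k) _ (isCoh_twist hL hF).1)

include k in
theorem chiCl_bc_O (x : InvCl X) :
    chiCl (RatFunc k) (Coh.structureModule (BaseRat.XK k X)) (VarietyLib.pullHom (BaseRat.pr k X) x) =
      chiCl k (Coh.structureModule X) x := by
  haveI := isNoetherian_of_proper (X := X) k
  obtain ⟨eO⟩ := exists_pullStructureIso (BaseRat.pr k X) (X := X)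
  rw [← chiCl_bc k (isCoh_structureModule X) x, chiCl_congr (RatFunc k) eO]

/-- One cut: the index property on a generic member through a small closed set. -/
theorem index_cut {n : ℕ} (ih : Index.{u} n) [IsIntegral X]
    (hX : topologicalKrullDim X = ((n + 1 + 2 : ℕ) : WithBot ℕ∞)) (H : X.Modules) (hH : CohB1.IsAmple H)
    (l : InvCl X)
    (h1 : interDeg (Fin.cons l (fun _ => InvCl.mk H hH.1) : Fin (n + 1 + 2) → InvCl X)
        (chiCl k (Coh.structureModule X)) = 0)
    {T : Set X} (hT : IsClosed T) (hTd : ∀ z ∈ T, ptDim (X ↘ Spec (CommRingCat.of k)) z ≤ n + 1) :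
    interDeg (Fin.cons l (Fin.cons l (fun _ => InvCl.mk H hH.1)) : Fin (n + 1 + 2) → InvCl X)
        (chiCl k (Coh.structureModule X)) ≤ 0 ∧
      (interDeg (Fin.cons l (Fin.cons l (fun _ => InvCl.mk H hH.1)) : Fin (n + 1 + 2) → InvCl X)
          (chiCl k (Coh.structureModule X)) = 0 →
        ∀ y ∈ T, topologicalKrullDim (closure {y} : Set X) = ((1 : ℕ) : WithBot ℕ∞) → deg k (clM y) l = 0) := by
  classical
  haveI := isNoetherian_of_proper (X := X) k
  haveI := BaseRat.isIntegral k (X := X)
  obtain ⟨N, hN, t₀, t₁, hU, hη, hT01, hbase⟩ := exists_pencil k (n := n + 1) hX hH hT hTd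
  have hP : CohB1.IsAmple (CohB1.tensorPow H N) := (isAmple_pow_iff hH.1 N hN).2 hH
  obtain ⟨s, hs, hbaseS, η, hηs, hcl⟩ := exists_irreducible_section k hX hP t₀ t₁ hU hη hbase
  let X' := BaseRat.XK k X
  let g := BaseRat.pr k X
  let q := X' ↘ Spec (CommRingCat.of (RatFunc k))
  haveI := isNoetherian_of_proper (X := X') (RatFunc k)
  have hX' : topologicalKrullDim X' = ((n + 2 + 1 : ℕ) : WithBot ℕ∞) :=
    (DimLib.topologicalKrullDim_bc (X ↘ Spec (CommRingCat.of k)) (RatFunc k)).trans hX
  obtain ⟨Q, hQ, hQs, hQd, hdiff⟩ := exists_cut (RatFunc k) (r := n + 2) hX'.le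
    (PicLoc.isInvertible_pullback g hP.1) hs
  set h := InvCl.mk H hH.1 with hh
  -- the basic identity
  have key : ∀ c : Fin (n + 2) → InvCl X,
      (N : ℤ) * interDeg (Fin.cons h c) (chiCl k (Coh.structureModule X)) =
        interDeg (fun i => VarietyLib.pullHom g (c i)) (chiCl (RatFunc k) Q) := by
    intro c
    have hdeg : ClDeg (n + 2 + 2) (chiCl k (Coh.structureModule X)) :=
      clDeg_chiCl k (isCoh_structureModule X) (r := n + 2 + 1)
        ((dim_mono (Set.subset_univ _)).trans
          ((IsHomeomorph.topologicalKrullDim_eq _ (Homeomorph.Set.univ X).isHomeomorph).le.trans hX.le))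
    rw [← interDeg_pow h c hdeg N, show h ^ N = InvCl.mk (CohB1.tensorPow H N) hP.1 from (InvCl.mk_tensorPow hH.1 N).symm,
      show chiCl k (Coh.structureModule X) =
        (fun x => chiCl (RatFunc k) (Coh.structureModule X') (VarietyLib.pullHom g x)) from
        funext fun x => (chiCl_bc_O k x).symm,
      ← interDeg_monoidHom,
      show (fun i => VarietyLib.pullHom g ((Fin.cons (InvCl.mk (CohB1.tensorPow H N) hP.1) c : Fin (n + 2 + 1) → InvCl X) i)) =
        Fin.cons (InvCl.mk _ (PicLoc.isInvertible_pullback g hP.1)) (fun i => VarietyLib.pullHom g (c i)) from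
        funext fun i => by induction i using Fin.cases <;> rfl,
      interDeg_cons, hdiff]
  -- the member has dimension `n + 2`
  have hsub : closure ({η} : Set X') = CohB1.support Q := by
    rw [hQs]
    exact ((glocus _ s).2.isClosed_compl.closure_subset_iff.2 (Set.singleton_subset_iff.2 hηs)).antisymm hcl
  have hηd : topologicalKrullDim (closure ({η} : Set X')) = ((n + 2 : ℕ) : WithBot ℕ∞) := by
    refine le_antisymm (hsub ▸ hQd) ?_
    by_contra hlt
    push Not at hlt
    have hpos := ample_interDeg_pos k (d := n + 2 + 1) hX hH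
    rw [const_eq_cons] at hpos
    have hz := key (fun _ => h)
    rw [interDeg_eq_zero _ (finDeg_chiCl (RatFunc k) hQ (hsub ▸ hlt))] at hz
    have hN' : (1 : ℤ) ≤ N := by exact_mod_cast hN
    rcases mul_eq_zero.1 hz with h0 | h0
    · omega
    · rw [h0] at hpos; exact lt_irrefl _ hpos
  set m : ℤ := (mult Q η : ℤ)
  have hm : 0 < m := Int.natCast_pos.2 (mult_pos_of_mem hQ hQd (hsub ▸ subset_closure rfl) hηd)
  -- the member as an integral scheme
  let Z := (clI η).subscheme
  let ι := (clI η).subschemeι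
  haveI : IsIntegral Z := isIntegral_clI η
  letI : Z.Over (Spec (CommRingCat.of (RatFunc k))) := ⟨ι ≫ q⟩
  haveI : IsProper (Z ↘ Spec (CommRingCat.of (RatFunc k))) := inferInstanceAs (IsProper (ι ≫ q))
  haveI := isNoetherian_of_proper (X := Z) (RatFunc k)
  have hZd : topologicalKrullDim Z = ((n + 2 : ℕ) : WithBot ℕ∞) := by
    rw [← hηd, ← range_clι η]
    exact IsHomeomorph.topologicalKrullDim_eq _ ι.isClosedEmbedding.isEmbedding.toHomeomorph.isHomeomorph
  let H' := (Scheme.Modules.pullback ι).obj ((Scheme.Modules.pullback g).obj H)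
  have hH' : CohB1.IsAmple H' := isAmple_pullback_of_isAffineHom ι (isAmple_pullback_of_isAffineHom g hH)
  let φ : InvCl X →* InvCl Z := (VarietyLib.pullHom ι).comp (VarietyLib.pullHom g)
  have keyZ : ∀ c : Fin (n + 2) → InvCl X,
      (N : ℤ) * interDeg (Fin.cons h c) (chiCl k (Coh.structureModule X)) =
        m * interDeg (fun i => φ (c i)) (chiCl (RatFunc k) (Coh.structureModule Z)) := by
    intro c
    rw [key c, interDeg_eq_mult_mul (RatFunc k) hQ hsub.ge hηd,
      show chiCl (RatFunc k) (clM η) = (fun x => chiCl (RatFunc k) (Coh.structureModule Z) (VarietyLib.pullHom ι x)) from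
        funext fun x => chiCl_push (RatFunc k) ι rfl (isCoh_structureModule Z) x,
      ← interDeg_monoidHom]
    rfl
  have hφh : φ h = InvCl.mk H' hH'.1 := rfl
  have ecl : ∀ {r : ℕ} (a : InvCl X) (c : Fin r → InvCl X),
      (fun i => φ ((Fin.cons a c : Fin (r + 1) → InvCl X) i)) = Fin.cons (φ a) (fun i => φ (c i)) :=
    fun a c => funext fun i => by induction i using Fin.cases <;> rfl
  -- the linear number vanishes
  have z1 : interDeg (Fin.cons (φ l) (fun _ => InvCl.mk H' hH'.1) : Fin (n + 2) → InvCl Z)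
      (chiCl (RatFunc k) (Coh.structureModule Z)) = 0 := by
    have e := keyZ (Fin.cons l fun _ => h)
    rw [← interDeg_swap, ← const_eq_cons, h1, mul_zero, ecl] at e
    exact (mul_eq_zero.1 e.symm).resolve_left hm.ne'
  obtain ⟨hle, hnum⟩ := ih (RatFunc k) Z hZd H' hH' (φ l) z1
  have e2 := keyZ (Fin.cons l (Fin.cons l fun _ => h))
  rw [← interDeg_swap, interDeg_cons l, ← interDeg_swap, ← interDeg_cons l, ← const_eq_cons, ecl, ecl] at e2
  have hN' : (1 : ℤ) ≤ N := by exact_mod_cast hN
  refine ⟨?_, fun h0 y hy hy1 => ?_⟩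
  · by_contra hgt
    push Not at hgt
    have : m * interDeg (Fin.cons (φ l) (Fin.cons (φ l) fun _ => φ h) : Fin (n + 2) → InvCl Z)
        (chiCl (RatFunc k) (Coh.structureModule Z)) ≤ 0 := mul_nonpos_of_nonneg_of_nonpos hm.le hle
    rw [← e2] at this
    nlinarith
  rw [h0, mul_zero] at e2
  have hdeg0 := hnum ((mul_eq_zero.1 e2.symm).resolve_left hm.ne')
  -- curves
  have hyc := isCoh_clM y
  have hF : Coh.IsCoh ((Scheme.Modules.pullback g).obj (clM y)) :=
    ⟨haveI := hyc.1; EGA43.InjFibre.isQCoh_pullback g _, Coherent.isFT_pullback_qcoh g hyc.1 hyc.2⟩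
  have hFs : ∀ z ∈ CohB1.support ((Scheme.Modules.pullback g).obj (clM y)), g z ∈ closure ({y} : Set X) :=
    fun z hz => (EulerLib.support_clM y).le ((support_pullback_qcoh g hyc.1 hyc.2).le hz)
  have hyd : ptDim (X ↘ Spec (CommRingCat.of k)) y = 1 := by
    rw [dim_closure_eq_ptDim k] at hy1
    exact_mod_cast hy1
  have hFd : topologicalKrullDim (CohB1.support ((Scheme.Modules.pullback g).obj (clM y))) ≤
      ((1 : ℕ) : WithBot ℕ∞) := by
    rw [topologicalKrullDim_closed_eq_iSup q (isClosed_support _ (locallyFinGen_of_isFT _ hF.2))]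
    refine iSup_le fun z => ?_
    have hz1 : ptDim q z.1 ≤ ptDim (X ↘ Spec (CommRingCat.of k)) (g z.1) :=
      ptDim_bc_le (X ↘ Spec (CommRingCat.of k)) (RatFunc k) z.1
    have hz2 := ptDim_le_of_specializes (X ↘ Spec (CommRingCat.of k))
      (specializes_iff_mem_closure.2 (hFs z.1 z.2))
    rw [hyd] at hz2
    exact_mod_cast hz1.trans hz2
  have hFη : CohB1.support ((Scheme.Modules.pullback g).obj (clM y)) ⊆ closure {η} := fun z hz => by
    have hgz := hT01 _ (hT.closure_subset_iff.2 (Set.singleton_subset_iff.2 hy) (hFs z hz))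
    exact hcl (hbaseS z hgz.1 hgz.2)
  have hd0 : deg (RatFunc k) ((Scheme.Modules.pullback g).obj (clM y)) (VarietyLib.pullHom g l) = 0 := by
    have hsum := eq_sum_mult (ψ := fun M => deg (RatFunc k) M (VarietyLib.pullHom g l)) (d := 1)
      (fun e => by rw [Surf15.deg_congr (RatFunc k) e])
      (fun T hT h₁ h₂ h₃ => deg_additive (RatFunc k) T hT h₁ h₂ h₃ _)
      (fun M hM hlt => by
        rw [← interDeg_one_class]
        exact interDeg_eq_zero _ (finDeg_chiCl (RatFunc k) hM hlt))
      hF hFd (finite_top_points (isClosed_support _ (locallyFinGen_of_isFT _ hF.2)) hFd).toFinset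
      (fun z hz h => (Set.Finite.mem_toFinset _).2 ⟨hz, h⟩)
      (fun z hz => ((Set.Finite.mem_toFinset _).1 hz).2)
    rw [hsum]
    refine Finset.sum_eq_zero fun z hz => ?_
    obtain ⟨hzF, hz1⟩ := (Set.Finite.mem_toFinset _).1 hz
    obtain ⟨w, rfl⟩ : z ∈ Set.range ι := (range_clι η).ge (hFη hzF)
    have hw1 : topologicalKrullDim (closure ({w} : Set Z)) = ((1 : ℕ) : WithBot ℕ∞) := by
      rw [← hz1, show closure ({ι w} : Set X') = ι '' closure {w} by
        rw [← ι.isClosedEmbedding.closure_image_eq, Set.image_singleton]]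
      exact IsHomeomorph.topologicalKrullDim_eq _
        (ι.isClosedEmbedding.isEmbedding.homeomorphImage (closure {w})).isHomeomorph
    have e := interDeg_pull_clM (RatFunc k) ι rfl w hw1 (fun _ => VarietyLib.pullHom g l)
    rw [interDeg_one_class, interDeg_one_class, CycLib28.residueDegree_preimmersion ι, Nat.cast_one, one_mul]
      at e
    rw [show deg (RatFunc k) (clM (ι w)) (VarietyLib.pullHom g l) = 0 from e.symm.trans (hdeg0 w hw1), smul_zero]
  rw [deg, ← map_one (VarietyLib.pullHom g), chiCl_bc k hyc, chiCl_bc k hyc] at hd0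
  exact hd0

theorem index : ∀ n, Index.{u} n
  | 0 => index_zero
  | n + 1 => by
    intro k _ X _ _ _ hX H hH l h1
    haveI := isNoetherian_of_proper (X := X) k
    refine ⟨(index_cut k (index n) hX H hH l h1 isClosed_empty (fun z hz => hz.elim)).1, fun h0 y hy => ?_⟩
    refine (index_cut k (index n) hX H hH l h1 (T := closure {y}) isClosed_closure (fun z hz => ?_)).2 h0 y
      (subset_closure rfl) hy
    have h := ptDim_le_of_specializes (X ↘ Spec (CommRingCat.of k)) (specializes_iff_mem_closure.2 hz)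
    rw [dim_closure_eq_ptDim k] at hy
    have : ptDim (X ↘ Spec (CommRingCat.of k)) y = 1 := by exact_mod_cast hy
    omega

end Groth.Agent.HodgeQ27
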