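import Groth.Agent.HodgeQ27.Index

/-!
# The index theorem on irreducible schemes, and numerical triviality from intersection numbers
-/

set_option autoImplicit false
set_option linter.style.haveILetI false
set_option backward.isDefEq.respectTransparency.types false

universe u

open CategoryTheory CategoryTheory.Limits AlgebraicGeometry Opposite TopologicalSpace
open Groth.Agent.Coherent Groth.Agent.PicLib Groth.Agent.AmpleLib Groth.Agent.EulerLib
open Groth.Agent.CurveRR24 Groth.Agent.DimLib Groth.Agent.AssSch12 Groth.Agent.AbCubeLib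
open Groth.Agent.Surf15 Groth.Agent.VarietyLib

namespace Groth.Agent.HodgeQ27

variable {X : Scheme.{u}}

theorem interDeg_eq_zero_of_vanish {r : ℕ} (c : Fin r → InvCl X) {φ : InvCl X → ℤ}
    (h : ∀ I : Finset (Fin r), φ (∏ i ∈ I, c i) = 0) : interDeg c φ = 0 := by
  simp only [interDeg, altSum, h, mul_zero, Finset.sum_const_zero]

variable (k : Type u) [Field k] [X.Over (Spec (CommRingCat.of k))]
  [IsProper (X ↘ Spec (CommRingCat.of k))]

include k in
/-- Classes of nonnegative square orthogonal to an ample one on an irreducible scheme are numerically trivial. -/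
theorem isNum_of_index [IrreducibleSpace X] {n : ℕ} (hX : topologicalKrullDim X = ((n + 2 : ℕ) : WithBot ℕ∞))
    (H : X.Modules) (hH : CohB1.IsAmple H) (l : InvCl X)
    (h1 : interDeg (Fin.cons l (fun _ => InvCl.mk H hH.1) : Fin (n + 2) → InvCl X)
      (chiCl k (Coh.structureModule X)) = 0)
    (h2 : 0 ≤ interDeg (Fin.cons l (Fin.cons l (fun _ => InvCl.mk H hH.1)) : Fin (n + 2) → InvCl X)
      (chiCl k (Coh.structureModule X))) : NumTriv23.IsNum k l := by
  classical
  haveI := isNoetherian_of_proper (X := X) k
  let ξ := genericPoint X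
  have hsub : CohB1.support (Coh.structureModule X) ⊆ closure {ξ} := fun z _ =>
    (genericPoint_closure X).ge (Set.mem_univ z)
  have hξd : topologicalKrullDim (closure ({ξ} : Set X)) = ((n + 2 : ℕ) : WithBot ℕ∞) := by
    rw [genericPoint_closure X, IsHomeomorph.topologicalKrullDim_eq _ (Homeomorph.Set.univ X).isHomeomorph, hX]
  set m : ℤ := (mult (Coh.structureModule X) ξ : ℤ)
  have hm : 0 < m := Int.natCast_pos.2 (mult_pos_of_mem (isCoh_structureModule X)
    (((dim_mono (Set.subset_univ _)).trans
      (IsHomeomorph.topologicalKrullDim_eq _ (Homeomorph.Set.univ X).isHomeomorph).le).trans hX.le)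
    (Surf15.mem_support_structureModule ξ) hξd)
  let Z := (clI ξ).subscheme
  let ι := (clI ξ).subschemeι
  haveI : IsIntegral Z := isIntegral_clI ξ
  letI : Z.Over (Spec (CommRingCat.of k)) := ⟨ι ≫ (X ↘ Spec (CommRingCat.of k))⟩
  haveI : IsProper (Z ↘ Spec (CommRingCat.of k)) :=
    inferInstanceAs (IsProper (ι ≫ (X ↘ Spec (CommRingCat.of k))))
  haveI := isNoetherian_of_proper (X := Z) k
  have hZd : topologicalKrullDim Z = ((n + 2 : ℕ) : WithBot ℕ∞) := by
    rw [← hξd, ← range_clι ξ]
    exact IsHomeomorph.topologicalKrullDim_eq _ ι.isClosedEmbedding.isEmbedding.toHomeomorph.isHomeomorph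
  have keyZ : ∀ c : Fin (n + 2) → InvCl X, interDeg c (chiCl k (Coh.structureModule X)) =
      m * interDeg (fun i => VarietyLib.pullHom ι (c i)) (chiCl k (Coh.structureModule Z)) := by
    intro c
    rw [interDeg_eq_mult_mul k (isCoh_structureModule X) hsub hξd,
      show chiCl k (clM ξ) = (fun x => chiCl k (Coh.structureModule Z) (VarietyLib.pullHom ι x)) from
        funext fun x => chiCl_push k ι rfl (isCoh_structureModule Z) x,
      ← interDeg_monoidHom]
  have ecl : ∀ {r : ℕ} (a : InvCl X) (c : Fin r → InvCl X),
      (fun i => VarietyLib.pullHom ι ((Fin.cons a c : Fin (r + 1) → InvCl X) i)) =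
        Fin.cons (VarietyLib.pullHom ι a) (fun i => VarietyLib.pullHom ι (c i)) :=
    fun a c => funext fun i => by induction i using Fin.cases <;> rfl
  have hH' : CohB1.IsAmple ((Scheme.Modules.pullback ι).obj H) := isAmple_pullback_of_isAffineHom ι hH
  rw [keyZ, ecl] at h1
  rw [keyZ, ecl, ecl] at h2
  obtain ⟨hle, hnum⟩ := index n k Z hZd _ hH' (VarietyLib.pullHom ι l) ((mul_eq_zero.1 h1).resolve_left hm.ne')
  have h0 := le_antisymm hle (nonneg_of_mul_nonneg_right h2 hm)
  intro y hy
  obtain ⟨w, rfl⟩ : y ∈ Set.range ι :=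
    (range_clι ξ).ge ((genericPoint_closure X).ge (Set.mem_univ y))
  have hw1 : topologicalKrullDim (closure ({w} : Set Z)) = ((1 : ℕ) : WithBot ℕ∞) := by
    rw [← show topologicalKrullDim (closure ({ι w} : Set X)) = ((1 : ℕ) : WithBot ℕ∞) from hy,
      show closure ({ι w} : Set X) = ι '' closure {w} by
        rw [← ι.isClosedEmbedding.closure_image_eq, Set.image_singleton]]
    exact IsHomeomorph.topologicalKrullDim_eq _
      (ι.isClosedEmbedding.isEmbedding.homeomorphImage (closure {w})).isHomeomorph
  have e := interDeg_pull_clM k ι rfl w hw1 (fun _ => l)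
  rw [interDeg_one_class, interDeg_one_class, CycLib28.residueDegree_preimmersion ι, Nat.cast_one, one_mul,
    hnum h0 w hw1] at e
  exact sub_eq_zero.1 e.symm

include k in
/-- Euler characteristics of all nonnegative twists unchanged by powers: numerically trivial. -/
theorem isNum_of_chiCl_eq [IrreducibleSpace X] (H : X.Modules) (hH : CohB1.IsAmple H) (l : InvCl X)
    (h : ∀ a b : ℕ, chiCl k (Coh.structureModule X) (l ^ a * InvCl.mk H hH.1 ^ b) =
      chiCl k (Coh.structureModule X) (InvCl.mk H hH.1 ^ b)) : NumTriv23.IsNum k l := by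
  classical
  haveI := isNoetherian_of_proper (X := X) k
  have hgen := topologicalKrullDim_eq_ptDim_genericPoint (X ↘ Spec (CommRingCat.of k))
  obtain ⟨d, hd⟩ : ∃ d : ℕ, ptDim (X ↘ Spec (CommRingCat.of k)) (genericPoint X) = d := ⟨_, rfl⟩
  rw [hd] at hgen
  set h' := InvCl.mk H hH.1
  match d, hd, hgen with
  | 0, hd, _ =>
    intro y hy
    exfalso
    rw [dim_closure_eq_ptDim k] at hy
    have hy1 : ptDim (X ↘ Spec (CommRingCat.of k)) y = 1 := by exact_mod_cast hy
    have := ptDim_le_of_specializes (X ↘ Spec (CommRingCat.of k)) (genericPoint_specializes y)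
    omega
  | 1, hd, hgen =>
    intro y hy
    have hy1 : ptDim (X ↘ Spec (CommRingCat.of k)) y = 1 := by
      rw [dim_closure_eq_ptDim k] at hy
      exact_mod_cast hy
    have hyξ : genericPoint X = y := by
      by_contra hne
      have := ptDim_lt_of_specializes (X ↘ Spec (CommRingCat.of k)) (genericPoint_specializes y) hne
      omega
    subst hyξ
    have hsupp : CohB1.support (Coh.structureModule X) ⊆ closure {genericPoint X} := fun z _ =>
      (genericPoint_closure X).ge (Set.mem_univ z)
    have e := interDeg_eq_mult_mul k (isCoh_structureModule X) hsupp hy (fun _ : Fin 1 => l)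
    have hpos := mult_pos_of_mem (isCoh_structureModule X)
      (((dim_mono (Set.subset_univ _)).trans
        (IsHomeomorph.topologicalKrullDim_eq _ (Homeomorph.Set.univ X).isHomeomorph).le).trans hgen.le)
      (Surf15.mem_support_structureModule (genericPoint X)) hy
    rw [interDeg_one_class, interDeg_one_class, deg] at e
    have h10 := h 1 0
    rw [pow_one, pow_zero, mul_one] at h10
    rw [h10, sub_self] at e
    exact sub_eq_zero.1 ((mul_eq_zero.1 e.symm).resolve_left (by exact_mod_cast (by omega : mult (Coh.structureModule X) (genericPoint X) ≠ 0)))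
  | n + 2, hd, hgen =>
    refine isNum_of_index k hgen H hH l ?_ (le_of_eq ?_)
    · rw [interDeg_cons]
      refine interDeg_eq_zero_of_vanish _ fun I => ?_
      rw [Finset.prod_const, sub_eq_zero]
      have := h 1 I.card
      rwa [pow_one] at this
    · symm
      rw [interDeg_cons, interDeg_cons]
      refine interDeg_eq_zero_of_vanish _ fun I => ?_
      rw [Finset.prod_const]
      have e2 := h 2 I.card
      have e1 := h 1 I.card
      rw [pow_two, mul_assoc] at e2
      rw [pow_one] at e1
      show _ - _ - (_ - _) = (0 : ℤ)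
      rw [e2, e1]
      ring

end Groth.Agent.HodgeQ27
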